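import Cfsg.Agent.H614.Weight
import Mathlib.Data.Fin.Tuple.Sort

/-!
# Lowering a bead of a tuple of positive weight (helper76, S4536)
-/

set_option autoImplicit false

namespace Cfsg.Agent.H76.GLB

open Finset Cfsg.Agent.H614

variable {m : ℕ}

/-- a tuple of positive weight has an entry which can be lowered by `e` -/
theorem exists_bead {e : ℕ} (he : 0 < e) {β : Fin m → ℕ} (hβ : Function.Injective β)
    (hw : npairs e β < ∑ j, β j / e) : ∃ j, e ≤ β j ∧ Function.Injective (dn β j e) := by
  classical
  by_contra hcon
  push Not at hcon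
  have step : ∀ j, e ≤ β j → ∃ k, β k = β j - e := by
    intro j hj
    have h1 := hcon j hj
    rw [Function.Injective] at h1
    push Not at h1
    obtain ⟨a, b, hab, hne⟩ := h1
    by_cases ha : a = j
    · subst ha
      rw [dn_self, dn_ne β e (Ne.symm hne)] at hab
      exact ⟨b, hab.symm⟩
    · rw [dn_ne β e ha] at hab
      by_cases hb : b = j
      · subst hb
        rw [dn_self] at hab
        exact ⟨a, hab⟩
      · rw [dn_ne β e hb] at hab
        exact absurd (hβ hab) hne
  have steps : ∀ c j, e * c ≤ β j → ∃ k, β k = β j - e * c := by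
    intro c
    induction c with
    | zero => intro j _; exact ⟨j, by simp⟩
    | succ c ih =>
      intro j hj
      rw [Nat.mul_succ] at hj
      obtain ⟨k, hk⟩ := ih j (by omega)
      obtain ⟨l, hl⟩ := step k (by omega)
      exact ⟨l, by rw [hl, hk, Nat.mul_succ]; omega⟩
  have hlow : ∀ j, β j / e ≤ low e β j := by
    intro j
    have h0 : e * (β j / e) ≤ β j := Nat.mul_div_le _ _
    have h1 : ∀ c : ℕ, ∃ k, c < β j / e → β k = β j - e * (c + 1) := by
      intro c
      by_cases hc : c < β j / e
      · obtain ⟨k, hk⟩ := steps (c + 1) j ((Nat.mul_le_mul_left e hc).trans h0)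
        exact ⟨k, fun _ => hk⟩
      · exact ⟨j, fun h => absurd h hc⟩
    choose f hf using h1
    unfold low
    conv_lhs => rw [← Finset.card_range (β j / e)]
    apply Finset.card_le_card_of_injOn f
    · intro c hc
      rw [Finset.mem_coe, Finset.mem_range] at hc
      have h2 := hf c hc
      have h3 : e * (c + 1) ≤ β j := (Nat.mul_le_mul_left e hc).trans h0
      rw [Finset.mem_coe, Finset.mem_filter]
      refine ⟨Finset.mem_univ _, ?_, ?_⟩
      · rw [h2]
        conv_rhs => rw [show β j = (β j - e * (c + 1)) + e * (c + 1) by omega]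
        rw [Nat.add_mul_mod_self_left]
      · rw [h2]
        have : 0 < e * (c + 1) := Nat.mul_pos he (Nat.succ_pos _)
        omega
    · intro c hc d hd hcd
      rw [Finset.mem_coe, Finset.mem_range] at hc hd
      have h2 := hf c hc
      have h2' := hf d hd
      have h3 : e * (c + 1) ≤ β j := (Nat.mul_le_mul_left e hc).trans h0
      have h3' : e * (d + 1) ≤ β j := (Nat.mul_le_mul_left e hd).trans h0
      rw [hcd, h2'] at h2
      have h4 : e * (c + 1) = e * (d + 1) := by omega
      have := Nat.eq_of_mul_eq_mul_left he h4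
      omega
  have h1 := Finset.sum_le_sum fun j (_ : j ∈ Finset.univ) => hlow j
  rw [sum_low e hβ] at h1
  omega

theorem exists_sort {β : Fin m → ℕ} (hβ : Function.Injective β) : ∃ σ : Equiv.Perm (Fin m), StrictMono (β ∘ σ) :=
  ⟨Tuple.sort β, (Tuple.monotone_sort β).strictMono_of_injective (hβ.comp (Tuple.sort β).injective)⟩

/-- the entry which was lowered is determined by the result -/
theorem dn_unique {e : ℕ} (he : 0 < e) {β : Fin m → ℕ} (hβ : Function.Injective β) {j j' : Fin m} (hj : e ≤ β j)
    {σ σ' : Equiv.Perm (Fin m)} (h : dn β j e ∘ σ = dn β j' e ∘ σ') : j = j' := by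
  by_contra hne
  have h1 : dn β j' e j = β j := dn_ne β e hne
  have h2 : dn β j e (σ (σ'.symm j)) = β j := by
    have h3 := congrFun h (σ'.symm j)
    rw [Function.comp_apply, Function.comp_apply, Equiv.apply_symm_apply, h1] at h3
    exact h3
  by_cases hk : σ (σ'.symm j) = j
  · rw [hk, dn_self] at h2
    omega
  · rw [dn_ne β e hk] at h2
    exact hk (hβ h2)

end Cfsg.Agent.H76.GLB
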