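import Cfsg.Agent.H466.Sl.NzStep
import Cfsg.Agent.S0906

/-!
# Blocks and defect groups of direct products (helper76, S4536 D4-B)

`exists_prodChar`, `prodBlk_blockOf`, `exists_defect_prod`.
-/

set_option autoImplicit false
set_option linter.unusedSectionVars false

open Cfsg

namespace Cfsg.Agent.H76.GLB

open Cfsg.Agent.H644 Cfsg.Agent.Blocks.Local Cfsg.Agent.H648.Dict Cfsg.Agent.H624.Sl Cfsg.Agent.H466.Sl
open Cfsg.Agent.Characters.Core

section ideal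

variable {M : Ideal AlgInt} [hP : M.IsPrime]

/-- the local ideal is prime -/
theorem not_memLocalIdeal_mul {z w : ℂ} (hz : MemLocalRing M z) (hw : MemLocalRing M w)
    (hz' : ¬ MemLocalIdeal M z) (hw' : ¬ MemLocalIdeal M w) : ¬ MemLocalIdeal M (z * w) := by
  obtain ⟨a, b, hb, rfl⟩ := hz
  obtain ⟨c, d, hd, rfl⟩ := hw
  have ha : a ∉ M := fun h => hz' ⟨a, b, h, hb, rfl⟩
  have hc : c ∉ M := fun h => hw' ⟨c, d, h, hd, rfl⟩
  rintro ⟨e, f, he, hf, h⟩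
  have h1 := coe_ne_zero_of_notMem hb
  have h2 := coe_ne_zero_of_notMem hd
  have h3 := coe_ne_zero_of_notMem hf
  have h4 : (e : ℂ) * ((b : ℂ) * d) = (f : ℂ) * ((a : ℂ) * c) := by
    field_simp at h
    linear_combination h
  have h5 : e * (b * d) = f * (a * c) := by
    apply Subtype.ext
    push_cast
    exact h4
  have h6 : f * (a * c) ∈ M := by
    rw [← h5]
    exact M.mul_mem_right _ he
  exact mul_notMem hf (mul_notMem ha hc) h6

end ideal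

section prod

variable {X₁ X₂ G : Type*} [Group X₁] [Finite X₁] [Group X₂] [Finite X₂] [Group G] [Finite G]
  {H : Subgroup G}

/-- the centralizer of an element of a product -/
theorem centralizer_prod (x : X₁ × X₂) : Subgroup.centralizer ({x} : Set (X₁ × X₂)) =
    (Subgroup.centralizer ({x.1} : Set X₁)).prod (Subgroup.centralizer ({x.2} : Set X₂)) := by
  ext y
  rw [Subgroup.mem_prod, Subgroup.mem_centralizer_singleton_iff, Subgroup.mem_centralizer_singleton_iff,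
    Subgroup.mem_centralizer_singleton_iff, Prod.ext_iff]
  rfl

theorem map_centralizer (φ : X₁ × X₂ ≃* H) (x : X₁ × X₂) :
    (Subgroup.centralizer ({x} : Set (X₁ × X₂))).map φ.toMonoidHom = Subgroup.centralizer ({φ x} : Set H) := by
  ext y
  rw [Subgroup.mem_centralizer_singleton_iff]
  constructor
  · rintro ⟨z, hz, rfl⟩
    rw [SetLike.mem_coe, Subgroup.mem_centralizer_singleton_iff] at hz
    change φ z * φ x = φ x * φ z
    rw [← map_mul, ← map_mul, hz]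
  · intro hy
    obtain ⟨z, rfl⟩ := φ.surjective y
    refine ⟨z, ?_, rfl⟩
    rw [SetLike.mem_coe, Subgroup.mem_centralizer_singleton_iff]
    apply φ.injective
    rw [map_mul, map_mul, hy]

theorem centralChar_outer (φ : X₁ × X₂ ≃* H) (χ₁ : IrrCharacter X₁) (χ₂ : IrrCharacter X₂) (x : X₁ × X₂) :
    centralChar (outer H φ (χ₁, χ₂) : H → ℂ) (φ x) =
      centralChar (χ₁ : X₁ → ℂ) x.1 * centralChar (χ₂ : X₂ → ℂ) x.2 := by
  have h1 : (Subgroup.centralizer ({φ x} : Set H)).index = (Subgroup.centralizer ({x.1} : Set X₁)).index *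
      (Subgroup.centralizer ({x.2} : Set X₂)).index := by
    have h0 : ((Subgroup.centralizer ({x} : Set (X₁ × X₂))).map φ.toMonoidHom).index =
        (Subgroup.centralizer ({x} : Set (X₁ × X₂))).index := Subgroup.index_map_equiv _ φ
    rw [← map_centralizer, h0, centralizer_prod, Subgroup.index_prod]
  have h2 : (outer H φ (χ₁, χ₂) : H → ℂ) 1 = (χ₁ : X₁ → ℂ) 1 * (χ₂ : X₂ → ℂ) 1 := by
    have := outer_apply H φ (χ₁, χ₂) 1
    rw [map_one] at this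
    exact this
  unfold centralChar
  rw [outer_apply, h1, h2]
  push_cast
  rw [div_mul_div_comm]
  congr 1
  ring

theorem exists_outer (φ : X₁ × X₂ ≃* H) (ψ : IrrCharacter H) : ∃ χ₁ χ₂, ψ = outer H φ (χ₁, χ₂) := by
  have h1 : IsIrrCharacter (X₁ × X₂) (fun x => (ψ : H → ℂ) (φ x)) :=
    isIrr_comp φ.toMonoidHom φ.surjective ψ.2
  obtain ⟨a, b, ha, hb, hab⟩ := (Cfsg.Agent.S0188.result _).1 h1
  refine ⟨⟨a, ha⟩, ⟨b, hb⟩, Subtype.ext ?_⟩
  funext y
  obtain ⟨x, rfl⟩ := φ.surjective y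
  rw [outer_apply]
  exact congrFun hab x

variable {p : ℕ} [Fact p.Prime] {𝔐 : Ideal AlgInt} {j : X₁ × X₂ →* G}

theorem eq_outer (hj : Function.Injective j) (hr : j.range = H) {χ₁ : IrrCharacter X₁} {χ₂ : IrrCharacter X₂}
    {ψ : IrrCharacter H}
    (hψ : ∀ (x : X₁ × X₂) (h : H), j x = h → (ψ : H → ℂ) h = (χ₁ : X₁ → ℂ) x.1 * (χ₂ : X₂ → ℂ) x.2) :
    ψ = outer H (onto j hj H hr) (χ₁, χ₂) := by
  apply Subtype.ext
  funext y
  obtain ⟨x, rfl⟩ := (onto j hj H hr).surjective y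
  rw [outer_apply]
  exact hψ x _ (coe_onto j hj H hr x).symm

/-- B1 -/
theorem exists_prodChar (hj : Function.Injective j) (hr : j.range = H) (χ₁ : IrrCharacter X₁) (χ₂ : IrrCharacter X₂) :
    ∃ ψ : IrrCharacter H, ∀ (x : X₁ × X₂) (h : H), j x = h →
      (ψ : H → ℂ) h = (χ₁ : X₁ → ℂ) x.1 * (χ₂ : X₂ → ℂ) x.2 := by
  refine ⟨outer H (onto j hj H hr) (χ₁, χ₂), fun x h hxh => ?_⟩
  have h1 : h = onto j hj H hr x := Subtype.ext (hxh.symm.trans (coe_onto j hj H hr x).symm)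
  rw [h1, outer_apply]

/-- B2 -/
theorem prodBlk_blockOf (hM : IsPModular p 𝔐) (hj : Function.Injective j) (hr : j.range = H)
    (χ₁ : IrrCharacter X₁) (χ₂ : IrrCharacter X₂) (ψ : IrrCharacter H)
    (hψ : ∀ (x : X₁ × X₂) (h : H), j x = h → (ψ : H → ℂ) h = (χ₁ : X₁ → ℂ) x.1 * (χ₂ : X₂ → ℂ) x.2) :
    prodBlk H j (blockOf 𝔐 (χ₁ : X₁ → ℂ)) (blockOf 𝔐 (χ₂ : X₂ → ℂ)) = blockOf 𝔐 (ψ : H → ℂ) := by
  have hP : 𝔐.IsPrime := isPrime_of_isPModular hM
  rw [eq_outer hj hr hψ, prodBlk_eq j hj H hr]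
  set φ := onto j hj H hr with hφ
  ext χ
  constructor
  · rintro ⟨⟨χ₁', χ₂'⟩, ⟨h₁, h₂⟩, rfl⟩
    intro y
    obtain ⟨x, rfl⟩ := φ.surjective y
    rw [centralChar_outer, centralChar_outer]
    have e : centralChar (χ₁ : X₁ → ℂ) x.1 * centralChar (χ₂ : X₂ → ℂ) x.2 -
        centralChar (χ₁' : X₁ → ℂ) x.1 * centralChar (χ₂' : X₂ → ℂ) x.2 =
        centralChar (χ₁ : X₁ → ℂ) x.1 * (centralChar (χ₂ : X₂ → ℂ) x.2 - centralChar (χ₂' : X₂ → ℂ) x.2) +
        (centralChar (χ₁ : X₁ → ℂ) x.1 - centralChar (χ₁' : X₁ → ℂ) x.1) * centralChar (χ₂' : X₂ → ℂ) x.2 := by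
      ring
    rw [e]
    exact memLocalIdeal_add (memLocalIdeal_mul_left (memLocalRing_centralChar χ₁ x.1) (h₂ x.2))
      (memLocalIdeal_mul_right (h₁ x.1) (memLocalRing_centralChar χ₂' x.2))
  · intro hχ
    obtain ⟨χ₁', χ₂', rfl⟩ := exists_outer φ χ
    refine ⟨(χ₁', χ₂'), ⟨fun g => ?_, fun g => ?_⟩, rfl⟩
    · have h1 := hχ (φ (g, 1))
      rw [centralChar_outer, centralChar_outer] at h1
      simp only [Cfsg.Agent.Blocks.Central.centralChar_one χ₂.2, Cfsg.Agent.Blocks.Central.centralChar_one χ₂'.2,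
        mul_one] at h1
      exact h1
    · have h1 := hχ (φ (1, g))
      rw [centralChar_outer, centralChar_outer] at h1
      simp only [Cfsg.Agent.Blocks.Central.centralChar_one χ₁.2, Cfsg.Agent.Blocks.Central.centralChar_one χ₁'.2,
        one_mul] at h1
      exact h1

/-- B3 -/
theorem exists_defect_prod (hM : IsPModular p 𝔐) (hj : Function.Injective j) (hr : j.range = H)
    {b₁ : Set (IrrCharacter X₁)} {b₂ : Set (IrrCharacter X₂)} (hb₁ : IsPBlock 𝔐 b₁) (hb₂ : IsPBlock 𝔐 b₂)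
    (Z : Subgroup X₁) (hZ : Z ≤ Subgroup.center X₁) (hZp : IsPGroup p Z) (D₂ : Subgroup X₂)
    (hD₂ : IsDefectGroup p 𝔐 b₂ D₂) :
    ∃ D : Subgroup H, IsDefectGroup p 𝔐 (prodBlk H j b₁ b₂) D ∧
      ∀ z ∈ Z, ∀ d ∈ D₂, j (z, d) ∈ D.map H.subtype := by
  have hP : 𝔐.IsPrime := isPrime_of_isPModular hM
  obtain ⟨g₁, hg₁⟩ := Cfsg.Agent.S0906.result p 𝔐 hM b₁ hb₁
  obtain ⟨g₂, hg₂, P₂, hP₂⟩ := hD₂
  set φ := onto j hj H hr with hφ
  have hdef : IsDefectClass 𝔐 (prodBlk H j b₁ b₂) (φ (g₁, g₂)) := by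
    refine ⟨?_, ?_, ?_⟩
    · rw [blockCoeff_prodBlk j hj H hr]
      exact memLocalRing_mul hg₁.1 hg₂.1
    · rw [blockCoeff_prodBlk j hj H hr]
      exact not_memLocalIdeal_mul hg₁.1 hg₂.1 hg₁.2.1 hg₂.2.1
    · rw [prodBlk_eq j hj H hr]
      rintro χ ⟨⟨χ₁, χ₂⟩, ⟨h₁, h₂⟩, rfl⟩
      rw [centralChar_outer]
      exact not_memLocalIdeal_mul (memLocalRing_centralChar χ₁ _) (memLocalRing_centralChar χ₂ _)
        (hg₁.2.2 χ₁ h₁) (hg₂.2.2 χ₂ h₂)
  set C := Subgroup.centralizer ({φ (g₁, g₂)} : Set H) with hC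
  set R : Subgroup H := (Z.prod D₂).map φ.toMonoidHom with hR
  have hD₂p : IsPGroup p D₂ := by
    rw [hP₂]
    exact P₂.isPGroup'.map _
  have hD₂c : D₂ ≤ Subgroup.centralizer ({g₂} : Set X₂) := by
    rw [hP₂]
    exact Subgroup.map_subtype_le _
  have hRp : IsPGroup p R := by
    refine IsPGroup.map ?_ _
    rintro ⟨⟨z, d⟩, hz, hd⟩
    obtain ⟨a, ha⟩ := hZp ⟨z, hz⟩
    obtain ⟨b, hb⟩ := hD₂p ⟨d, hd⟩
    have ha' : z ^ p ^ a = 1 := congrArg Subtype.val ha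
    have hb' : d ^ p ^ b = 1 := congrArg Subtype.val hb
    refine ⟨a + b, Subtype.ext (Prod.ext ?_ ?_)⟩
    · change z ^ p ^ (a + b) = 1
      rw [pow_add, pow_mul, ha', one_pow]
    · change d ^ p ^ (a + b) = 1
      rw [pow_add, mul_comm, pow_mul, hb', one_pow]
  have hRC : R ≤ C := by
    rw [hC, ← map_centralizer]
    refine Subgroup.map_mono ?_
    rintro ⟨z, d⟩ ⟨hz, hd⟩
    rw [centralizer_prod]
    refine ⟨?_, hD₂c hd⟩
    change z ∈ Subgroup.centralizer ({g₁} : Set X₁)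
    rw [Subgroup.mem_centralizer_singleton_iff]
    exact (Subgroup.mem_center_iff.1 (hZ hz) g₁).symm
  obtain ⟨P, hP'⟩ := IsPGroup.exists_le_sylow (p := p) (G := C) (P := R.subgroupOf C) hRp.comap_subtype
  refine ⟨(P : Subgroup C).map C.subtype, ⟨φ (g₁, g₂), hdef, P, rfl⟩, fun z hz d hd => ?_⟩
  have h1 : φ (z, d) ∈ R := ⟨(z, d), ⟨hz, hd⟩, rfl⟩
  refine ⟨φ (z, d), ⟨⟨φ (z, d), hRC h1⟩, hP' ?_, rfl⟩, coe_onto j hj H hr (z, d)⟩
  rw [Subgroup.mem_subgroupOf]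
  exact h1

end prod

end Cfsg.Agent.H76.GLB
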