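import Cfsg.Agent.H76.GLB.Lower
import Cfsg.Agent.H614.GLn.RSLab

/-!
# (D4) of S4536: lowering, without hypotheses (helper76)
-/

set_option autoImplicit false

namespace Cfsg.Agent.H76.GLB

open MvPolynomial Cfsg.Agent.H614 Cfsg.Agent.H577.GLB.Std Cfsg.Agent.H614.GLn Cfsg.Agent.H614.GLn.RSt

variable {Q : ℤ} {M : ℕ} [NeZero M]

theorem orth (hQ : IsUnit (Q : ZMod M)) : Orth Q M := by
  intro m n _ t t'
  have h := form_SchP hQ t t'
  constructor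
  · intro e
    rw [h, if_pos (by rw [e])]
  · intro e
    rw [h, if_neg (fun h' => e (LabZ.ext h'))]

/-- **(D4)** -/
theorem exists_lower' {p : ℕ} (hp : p.Prime) (hQ : IsUnit (Q : ZMod M)) (hQp : IsUnit (Q : ZMod p))
    {m n : ℕ} (hmn : n ≤ m) (t : LabZ Q M m n) (ht : POnly M p t.t) (δ : ZMod M) (hδ : PReg M p δ)
    (hw : 0 < ewt (eD Q M p δ) (t.t δ)) :
    eD Q M p δ * perZ Q M δ ≤ n ∧
    ∃ t1 : LabZ Q M m (n - eD Q M p δ * perZ Q M δ), POnly M p t1.t ∧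
      (∀ δ', ¬ SameZ Q M δ δ' → t1.t δ' = t.t δ') ∧ SameCol (eD Q M p δ) (t1.t δ) (t.t δ) ∧
      ewt (eD Q M p δ) (t1.t δ) + 1 = ewt (eD Q M p δ) (t.t δ) ∧
      form Q M (pderiv (eD Q M p δ * perZ Q M δ, canon Q M δ) (SchP Q M t.t)) (SchP Q M t1.t) ≠ 0 :=
  exists_lower (orth hQ) hp hQ hQp hmn t ht δ hδ hw

end Cfsg.Agent.H76.GLB
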