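import Cfsg.Agent.H577.GLB.StdCount
import Cfsg.Agent.H614.GLn.RSForm

/-!
# Counting the labels fixed by a translation, general form (helper76, S4536 DE)

`g ∈ ZMod M` fixed by `Q`, `P` a predicate invariant under `Q` and `+ g`; `Om` the canonical `x` with `P x`;
`sh x = canon (x + g)` a permutation of `Om`; `Cls` the classes; `per q` the length of the class `q`.

* `sum_Om` : `∑_{x ∈ Om} w x = ∑_q per q * w q`;
* `card_le_prod` : the number of invariant functions `t` with `t c ∈ X c`, `t (c + c₀ g) = t c`, is at most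
  `∏_q |X q| ^ gcd (c₀, per q)`;
* `sum_prod_le` : `∑_{c < N} ∏_i h_i c ≤ (N / L) ∏_i ∑_{v < k_i} h_i v`;
* `exists_gen`, `sum_subgroup` : subgroups of `ZMod M` are cyclic.
-/

set_option autoImplicit false
set_option linter.unusedSectionVars false

namespace Cfsg.Agent.H76.GLB

open Finset Cfsg.Agent.H577.GLB.Std Cfsg.Agent.H614.GLn.RSt

/-! ### numbers -/

theorem sum_prod_le {ι : Type*} [Fintype ι] (k : ι → ℕ) (hk : ∀ i, 0 < k i) {N L : ℕ}
    (hL : ∀ c, (∀ i, k i ∣ c) → L ∣ c) (h : ι → ℕ → ℕ) (hper : ∀ i c, h i c = h i (c % k i))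
    (hLN : L ∣ N) : ∑ c ∈ range N, ∏ i, h i c ≤ (N / L) * ∏ i, ∑ v ∈ range (k i), h i v := by
  classical
  have h1 : (N / L) * ∏ i, ∑ v ∈ range (k i), h i v =
      ∑ y ∈ range (N / L) ×ˢ Fintype.piFinset (fun i => range (k i)), ∏ i, h i (y.2 i) := by
    rw [Finset.sum_product, Finset.prod_univ_sum]
    simp
  rw [h1]
  let φ : ℕ → ℕ × (ι → ℕ) := fun c => (c / L, fun i => c % k i)
  have hinj : Set.InjOn φ (range N) := by
    intro c _ c' _ hcc
    have h2 : c / L = c' / L := congrArg Prod.fst hcc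
    have h3 : ∀ i, c % k i = c' % k i := fun i => congrFun (congrArg Prod.snd hcc) i
    have key : ∀ {c c' : ℕ}, c ≤ c' → (∀ i, c % k i = c' % k i) → c / L = c' / L → c = c' := by
      intro c c' hle h3 h2
      have h4 : L ∣ c' - c := hL _ fun i => (Nat.modEq_iff_dvd' hle).1 (h3 i)
      have h5 : c % L = c' % L := (Nat.modEq_iff_dvd' hle).2 h4
      rw [← Nat.div_add_mod c L, ← Nat.div_add_mod c' L, h2, h5]
    rcases le_total c c' with h | h
    · exact key h h3 h2
    · exact (key h (fun i => (h3 i).symm) h2.symm).symm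
  have h2 : ∑ c ∈ range N, ∏ i, h i c = ∑ y ∈ (range N).image φ, ∏ i, h i (y.2 i) := by
    rw [Finset.sum_image hinj]
    exact Finset.sum_congr rfl fun c _ => Finset.prod_congr rfl fun i _ => hper i c
  rw [h2]
  refine Finset.sum_le_sum_of_subset ?_
  intro y hy
  obtain ⟨c, hc, rfl⟩ := Finset.mem_image.1 hy
  rw [Finset.mem_range] at hc
  rw [Finset.mem_product, Finset.mem_range, Fintype.mem_piFinset]
  exact ⟨Nat.div_lt_div_of_lt_of_dvd hLN hc, fun i => Finset.mem_range.2 (Nat.mod_lt _ (hk i))⟩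

/-- a function on `ℕ` with periods `c` and `k` has period `gcd (c, k)` -/
theorem mod_gcd {α : Type*} {ψ : ℕ → α} {c k : ℕ} (hk : 0 < k) (hc : ∀ i, ψ (i + c) = ψ i)
    (hk' : ∀ i, ψ (i + k) = ψ i) (i : ℕ) : ψ i = ψ (i % Nat.gcd c k) := by
  have hc' : ∀ u i, ψ (i + u * c) = ψ i := by
    intro u
    induction u with
    | zero => intro i; rw [Nat.zero_mul, Nat.add_zero]
    | succ u ih => intro i; rw [Nat.succ_mul, ← Nat.add_assoc, hc, ih]
  have hk'' : ∀ u i, ψ (i + u * k) = ψ i := by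
    intro u
    induction u with
    | zero => intro i; rw [Nat.zero_mul, Nat.add_zero]
    | succ u ih => intro i; rw [Nat.succ_mul, ← Nat.add_assoc, hk', ih]
  have hg : ∀ i, ψ (i + Nat.gcd c k) = ψ i := by
    intro i
    rcases Nat.lt_or_ge (Nat.gcd c k) k with hlt | hge
    · obtain ⟨u, -, hu⟩ := Nat.exists_mul_mod_eq_gcd hlt
      have h1 := Nat.mod_add_div (c * u) k
      rw [hu] at h1
      rw [← hk'' (c * u / k) (i + Nat.gcd c k), Nat.add_assoc, Nat.mul_comm (c * u / k), h1, Nat.mul_comm, hc']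
    · rw [le_antisymm (Nat.gcd_le_right c hk) hge, hk']
  have hg' : ∀ u i, ψ (i + u * Nat.gcd c k) = ψ i := by
    intro u
    induction u with
    | zero => intro i; rw [Nat.zero_mul, Nat.add_zero]
    | succ u ih => intro i; rw [Nat.succ_mul, ← Nat.add_assoc, hg, ih]
  conv_lhs => rw [← Nat.mod_add_div i (Nat.gcd c k), Nat.mul_comm, hg']

/-! ### the classes -/

section

variable {Q : ℤ} {M : ℕ} [NeZero M] {g : ZMod M} {P : ZMod M → Prop}

/-- the situation -/
structure Sit (Q : ℤ) (M : ℕ) [NeZero M] (g : ZMod M) (P : ZMod M → Prop) : Prop where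
  unit : IsUnit (Q : ZMod M)
  fix : (Q : ZMod M) * g = g
  PQ : ∀ c, P ((Q : ZMod M) * c) ↔ P c
  Pg : ∀ c, P (c + g) ↔ P c

theorem fun_canon {α : Sort*} {f : ZMod M → α} (hf : ∀ c, f ((Q : ZMod M) * c) = f c) (c : ZMod M) :
    f (canon Q M c) = f c := by
  obtain ⟨j, hj⟩ := sameZ_canon (Q := Q) c
  rw [hj]
  clear hj
  induction j with
  | zero => rw [pow_zero, one_mul]
  | succ j ih => rw [pow_succ', mul_assoc, hf, ih]

/-- the canonical labels with the property `P` -/
def Om (Q : ℤ) (M : ℕ) (P : ZMod M → Prop) : Type := {x : ZMod M // canon Q M x = x ∧ P x}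

namespace Sit

variable (h : Sit Q M g P)

include h

theorem P_canon (c : ZMod M) : P (canon Q M c) ↔ P c :=
  iff_of_eq (fun_canon (fun c => propext (h.PQ c)) c)

theorem pow_fix (j : ℕ) : (Q : ZMod M) ^ j * g = g := by
  induction j with
  | zero => rw [pow_zero, one_mul]
  | succ j ih => rw [pow_succ', mul_assoc, ih, h.fix]

theorem canon_canon_add (x : ZMod M) : canon Q M (canon Q M x + g) = canon Q M (x + g) := by
  refine (canon_eq_of_same h.unit ?_).symm
  obtain ⟨j, hj⟩ := sameZ_canon (Q := Q) x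
  exact ⟨j, by rw [mul_add, h.pow_fix, ← hj]⟩

/-- the shift -/
noncomputable def sh (x : Om Q M P) : Om Q M P :=
  ⟨canon Q M (x.1 + g), canon_canon h.unit _, (h.P_canon _).2 ((h.Pg _).2 x.2.2)⟩

theorem iter_val (i : ℕ) (x : Om Q M P) : (h.sh^[i] x).1 = canon Q M (x.1 + i • g) := by
  induction i with
  | zero => rw [Function.iterate_zero, id, zero_nsmul, add_zero, x.2.1]
  | succ i ih =>
    rw [Function.iterate_succ_apply']
    show canon Q M ((h.sh^[i] x).1 + g) = _
    rw [ih, h.canon_canon_add, succ_nsmul, add_assoc]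

theorem iter_order (x : Om Q M P) : h.sh^[addOrderOf g] x = x := by
  apply Subtype.ext
  rw [h.iter_val, addOrderOf_nsmul_eq_zero, add_zero, x.2.1]

theorem order_pos : 0 < addOrderOf g := addOrderOf_pos g

theorem iter_mul_order (x : Om Q M P) (j : ℕ) : h.sh^[addOrderOf g * j] x = x := by
  rw [Function.iterate_mul]
  induction j with
  | zero => rfl
  | succ j ih => rw [Function.iterate_succ_apply', ih, h.iter_order]

/-- the period -/
noncomputable def kk (x : Om Q M P) : ℕ := Function.minimalPeriod h.sh x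

theorem kk_dvd_iff (x : Om Q M P) (i : ℕ) : h.kk x ∣ i ↔ h.sh^[i] x = x := by
  rw [kk, ← Function.isPeriodicPt_iff_minimalPeriod_dvd]
  rfl

theorem kk_dvd (x : Om Q M P) : h.kk x ∣ addOrderOf g := (h.kk_dvd_iff x _).2 (h.iter_order x)

theorem kk_pos (x : Om Q M P) : 0 < h.kk x := Nat.pos_of_dvd_of_pos (h.kk_dvd x) h.order_pos

theorem kk_dvd_iff' (x : Om Q M P) (i : ℕ) : h.kk x ∣ i ↔ SameZ Q M x.1 (x.1 + i • g) := by
  rw [h.kk_dvd_iff, ← canon_eq_iff h.unit, x.2.1]
  constructor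
  · intro h1
    rw [← h.iter_val, h1]
  · intro h1
    apply Subtype.ext
    rw [h.iter_val, ← h1]

/-- the classes -/
def stoid : Setoid (Om Q M P) where
  r x y := ∃ i, h.sh^[i] x = y
  iseqv :=
    { refl := fun x => ⟨0, rfl⟩
      symm := by
        rintro x y ⟨i, rfl⟩
        refine ⟨addOrderOf g * i - i, ?_⟩
        rw [← Function.iterate_add_apply, Nat.sub_add_cancel (Nat.le_mul_of_pos_left i h.order_pos),
          h.iter_mul_order]
      trans := by
        rintro x y z ⟨i, rfl⟩ ⟨j, rfl⟩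
        exact ⟨j + i, by rw [Function.iterate_add_apply]⟩ }

end Sit

instance : Finite (Om Q M P) := Subtype.finite

/-- the classes -/
def Cls (h : Sit Q M g P) : Type := Quotient h.stoid

instance (h : Sit Q M g P) : Finite (Cls h) := Quotient.finite _

noncomputable instance (h : Sit Q M g P) : Fintype (Cls h) := Fintype.ofFinite _

namespace Sit

variable (h : Sit Q M g P)

/-- the representative -/
noncomputable def rep (q : Cls h) : Om Q M P := Quotient.out (s := h.stoid) q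

/-- the class -/
def cls (x : Om Q M P) : Cls h := Quotient.mk h.stoid x

theorem cls_rep (q : Cls h) : h.cls (h.rep q) = q := Quotient.out_eq (s := h.stoid) q

theorem exists_iter (x : Om Q M P) : ∃ i, h.sh^[i] (h.rep (h.cls x)) = x :=
  Quotient.exact (s := h.stoid) (h.cls_rep (h.cls x))

theorem cls_eq_iff (x y : Om Q M P) : h.cls x = h.cls y ↔ ∃ i, h.sh^[i] x = y := Quotient.eq (r := h.stoid)

/-- the period of a class -/
noncomputable def per (q : Cls h) : ℕ := h.kk (h.rep q)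

theorem per_pos (q : Cls h) : 0 < h.per q := h.kk_pos _

theorem per_dvd (q : Cls h) : h.per q ∣ addOrderOf g := h.kk_dvd _

/-- invariant functions are constant on the classes -/
theorem fun_rep {α : Sort*} {f : ZMod M → α} (hf : ∀ c, f ((Q : ZMod M) * c) = f c) (hg : ∀ c, f (c + g) = f c)
    (x : Om Q M P) : f x.1 = f (h.rep (h.cls x)).1 := by
  obtain ⟨i, hi⟩ := h.exists_iter x
  conv_lhs => rw [← hi]
  rw [h.iter_val, fun_canon hf]
  clear hi
  generalize (h.rep (h.cls x)).1 = y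
  induction i with
  | zero => rw [zero_nsmul, add_zero]
  | succ i ih => rw [succ_nsmul, ← add_assoc, hg, ih]

open Classical in
/-- the size of a class -/
theorem card_cls (q : Cls h) [Fintype (Om Q M P)] :
    (Finset.univ.filter fun x : Om Q M P => h.cls x = q).card = h.per q := by
  have h1 : (Finset.univ.filter fun x : Om Q M P => h.cls x = q) =
      (Finset.range (h.per q)).image (fun j => h.sh^[j] (h.rep q)) := by
    ext c
    rw [Finset.mem_filter, Finset.mem_image]
    constructor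
    · rintro ⟨-, rfl⟩
      obtain ⟨i, hi⟩ := h.exists_iter c
      refine ⟨i % h.per (h.cls c), Finset.mem_range.2 (Nat.mod_lt _ (h.per_pos _)), ?_⟩
      conv_rhs => rw [← hi]
      exact Function.iterate_mod_minimalPeriod_eq
    · rintro ⟨j, -, rfl⟩
      refine ⟨Finset.mem_univ _, ?_⟩
      conv_rhs => rw [← h.cls_rep q]
      exact ((h.cls_eq_iff _ _).2 ⟨j, rfl⟩).symm
  rw [h1, Finset.card_image_of_injOn, Finset.card_range]
  intro i hi j hj hij
  rw [Finset.mem_coe, Finset.mem_range] at hi hj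
  exact Function.iterate_injOn_Iio_minimalPeriod hi hj hij

open Classical in
/-- **summation over the classes** -/
theorem sum_Om (w : ZMod M → ℕ) (hw : ∀ c, w ((Q : ZMod M) * c) = w c) (hg : ∀ c, w (c + g) = w c) :
    ∑ x ∈ Finset.univ.filter (fun x : ZMod M => canon Q M x = x ∧ P x), w x =
      ∑ q : Cls h, h.per q * w (h.rep q).1 := by
  have : Fintype (Om Q M P) := Fintype.ofFinite _
  have h1 : ∑ x ∈ Finset.univ.filter (fun x : ZMod M => canon Q M x = x ∧ P x), w x =
      ∑ x : Om Q M P, w x.1 := by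
    refine Finset.sum_bij' (i := fun x hx => (⟨x, (Finset.mem_filter.1 hx).2⟩ : Om Q M P)) (j := fun x _ => x.1)
      (fun _ _ => Finset.mem_univ _) (fun x _ => Finset.mem_filter.2 ⟨Finset.mem_univ _, x.2⟩)
      (fun _ _ => rfl) (fun _ _ => rfl) (fun _ _ => rfl)
  rw [h1, ← Finset.sum_fiberwise (s := Finset.univ) (g := fun x : Om Q M P => h.cls x)]
  refine Finset.sum_congr rfl fun q _ => ?_
  rw [Finset.sum_congr rfl (g := fun _ => w (h.rep q).1), Finset.sum_const, h.card_cls, smul_eq_mul]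
  intro x hx
  rw [h.fun_rep hw hg x, (Finset.mem_filter.1 hx).2]

/-- **the number of labels fixed by a translation** -/
theorem card_le_prod {m : ℕ} (X : ZMod M → Set (Fin m → ℕ)) (hfin : ∀ c, (X c).Finite)
    (hXQ : ∀ c, X ((Q : ZMod M) * c) = X c) (hXg : ∀ c, X (c + g) = X c) (hX1 : ∀ c, ¬ P c → (X c).Subsingleton)
    (c₀ : ℕ) :
    Nat.card {t : ZMod M → Fin m → ℕ // (∀ c, t c ∈ X c) ∧ (∀ c, t ((Q : ZMod M) * c) = t c) ∧
      ∀ c, t (c + c₀ • g) = t c} ≤ ∏ q : Cls h, Nat.card (X (h.rep q).1) ^ Nat.gcd c₀ (h.per q) := by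
  classical
  have hf : ∀ q : Cls h, Finite (X (h.rep q).1) := fun q => (hfin _).to_subtype
  have h1 : ∏ q : Cls h, Nat.card (X (h.rep q).1) ^ Nat.gcd c₀ (h.per q) =
      Nat.card (∀ q : Cls h, Fin (Nat.gcd c₀ (h.per q)) → X (h.rep q).1) := by
    rw [Nat.card_pi]
    refine Finset.prod_congr rfl fun q _ => ?_
    rw [Nat.card_fun, Nat.card_fin]
  rw [h1]
  have hXc : ∀ x : Om Q M P, X x.1 = X (h.rep (h.cls x)).1 := fun x => h.fun_rep hXQ hXg x
  have hXi : ∀ (q : Cls h) (i : ℕ), X (h.sh^[i] (h.rep q)).1 = X (h.rep q).1 := by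
    intro q i
    have h2 := hXc (h.sh^[i] (h.rep q))
    have h3 : h.cls (h.sh^[i] (h.rep q)) = q := by
      conv_rhs => rw [← h.cls_rep q]
      exact ((h.cls_eq_iff _ _).2 ⟨i, rfl⟩).symm
    rw [h2, h3]
  refine Nat.card_le_card_of_injective
    (fun t q i => ⟨t.1 (h.sh^[(i : ℕ)] (h.rep q)).1, by rw [← hXi q i]; exact t.2.1 _⟩) ?_
  intro t t' htt
  have hval : ∀ (q : Cls h) (i : ℕ), i < Nat.gcd c₀ (h.per q) →
      t.1 (h.sh^[i] (h.rep q)).1 = t'.1 (h.sh^[i] (h.rep q)).1 := by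
    intro q i hi
    exact congrArg Subtype.val (congrFun (congrFun htt q) (⟨i, hi⟩ : Fin _))
  have hperi : ∀ (s : {t : ZMod M → Fin m → ℕ // (∀ c, t c ∈ X c) ∧ (∀ c, t ((Q : ZMod M) * c) = t c) ∧
      ∀ c, t (c + c₀ • g) = t c}) (q : Cls h) (i : ℕ),
      s.1 (h.sh^[i] (h.rep q)).1 = s.1 (h.sh^[i % Nat.gcd c₀ (h.per q)] (h.rep q)).1 := by
    intro s q i
    refine mod_gcd (ψ := fun i => s.1 (h.sh^[i] (h.rep q)).1) (h.per_pos q) (fun i => ?_) (fun i => ?_) i
    · rw [h.iter_val, h.iter_val, fun_canon s.2.2.1, fun_canon s.2.2.1, add_nsmul, ← add_assoc, s.2.2.2]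
    · have h5 : h.sh^[h.per q] (h.rep q) = h.rep q := (h.kk_dvd_iff _ _).1 dvd_rfl
      rw [Function.iterate_add_apply, h5]
  apply Subtype.ext
  funext c
  by_cases hc : P c
  · have h2 : ∀ s : ZMod M → Fin m → ℕ, (∀ c, s ((Q : ZMod M) * c) = s c) → s c = s (canon Q M c) := fun s hs =>
      (fun_canon hs c).symm
    rw [h2 t.1 t.2.2.1, h2 t'.1 t'.2.2.1]
    set x : Om Q M P := ⟨canon Q M c, canon_canon h.unit c, (h.P_canon c).2 hc⟩ with hx
    obtain ⟨i, hi⟩ := h.exists_iter x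
    have h3 : canon Q M c = (h.sh^[i] (h.rep (h.cls x))).1 := by rw [hi]
    rw [h3, hperi t, hperi t', hval _ _ (Nat.mod_lt _ (Nat.gcd_pos_of_pos_right _ (h.per_pos _)))]
  · exact hX1 c hc (t.2.1 c) (t'.2.1 c)

end Sit

/-! ### subgroups -/

/-- subgroups of `ZMod M` are cyclic; summation over a subgroup -/
theorem exists_gen (A : AddSubgroup (ZMod M)) : ∃ g ∈ A, (∀ a ∈ A, ∃ i : ℕ, i < addOrderOf g ∧ a = i • g) := by
  have hc : IsAddCyclic A := inferInstance
  obtain ⟨⟨g, hg⟩, hgen⟩ := hc.exists_zsmul_surjective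
  refine ⟨g, hg, fun a ha => ?_⟩
  obtain ⟨z, hz⟩ := hgen ⟨a, ha⟩
  have hz' : z • g = a := congrArg Subtype.val hz
  refine ⟨(z % (addOrderOf g : ℤ)).toNat, ?_, ?_⟩
  · have h0 : (0 : ℤ) < addOrderOf g := by exact_mod_cast addOrderOf_pos g
    have h1 := Int.emod_lt_of_pos z h0
    have h2 := Int.emod_nonneg z h0.ne'
    omega
  · have h0 : (0 : ℤ) < addOrderOf g := by exact_mod_cast addOrderOf_pos g
    have h2 := Int.emod_nonneg z h0.ne'
    rw [← natCast_zsmul, Int.toNat_of_nonneg h2, ← hz', mod_addOrderOf_zsmul]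

theorem nsmul_inj {g : ZMod M} {i j : ℕ} (hi : i < addOrderOf g) (hj : j < addOrderOf g) (h : i • g = j • g) : i = j :=
  nsmul_injOn_Iio_addOrderOf hi hj h

end

end Cfsg.Agent.H76.GLB
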